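import Groth.Prelude.Def_W4c4chowquasisplitNorm
import Groth.Agent.L22.Cyc.FiniteDeg
import Mathlib.FieldTheory.Galois.Basic
import Mathlib.GroupTheory.Sylow
import Mathlib.GroupTheory.Archimedean
import Mathlib.Data.ZMod.QuotientGroup
import Mathlib.FieldTheory.IntermediateField.Algebraic

/-!
The Chow group of the spectrum of a field and the image of the norm subgroup in it.
-/

set_option autoImplicit false
set_option backward.isDefEq.respectTransparency.types false
set_option linter.style.haveILetI false

universe u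

open AlgebraicGeometry CategoryTheory

namespace Groth.Agent.L28.PtNorm

variable (k : Type u) [Field k]

noncomputable instance : Unique (Spec (CommRingCat.of k)) :=
  inferInstanceAs (Unique (PrimeSpectrum k))

theorem ratTriv_eq_bot : ChowOps.ratTriv (Spec (CommRingCat.of k)) (fun _ => 0) 0 = ⊥ := by
  rw [ChowOps.ratTriv, AddSubgroup.closure_eq_bot_iff]
  rintro a ⟨ι, ξ, f, hξ, -, -, ha⟩
  haveI : IsEmpty ι := ⟨fun i => absurd (hξ i) (by norm_num)⟩
  refine Set.mem_singleton_iff.2 (Subtype.ext ?_)
  ext x
  rw [ha x, finsum_of_isEmpty]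
  rfl

/-- The coefficient at the unique point, on cycles. -/
noncomputable def coeff₀ :
    ↥(ChowOps.zk (Spec (CommRingCat.of k)) (fun _ => 0) 0) →+ ℤ where
  toFun a := (a : AlgebraicCycle (Spec (CommRingCat.of k)) ℤ) default
  map_zero' := rfl
  map_add' _ _ := rfl

/-- The coefficient at the unique point, on the Chow group. -/
noncomputable def coeff : ChowOps.CH (Spec (CommRingCat.of k)) (fun _ => 0) 0 →+ ℤ :=
  QuotientAddGroup.lift _ (coeff₀ k) (by rw [ratTriv_eq_bot]; exact bot_le)

theorem coeff_cl (α : AlgebraicCycle (Spec (CommRingCat.of k)) ℤ)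
    (h : α ∈ Cyc.Zk (Spec (CommRingCat.of k)) (fun _ => 0) 0) :
    coeff k (ChowOps.cl α h) = α default := rfl

/-- A cycle on a space with a single point. -/
noncomputable def single (X : Scheme.{u}) [Subsingleton X] (n : ℤ) : AlgebraicCycle X ℤ where
  toFun _ := n
  supportWithinDomain' := by simp
  supportLocallyFiniteWithinDomain' z _ :=
    ⟨Set.univ, Filter.univ_mem, Set.toFinite _⟩

theorem coeff_bijective : Function.Bijective (coeff k) := by
  constructor
  · refine (injective_iff_map_eq_zero _).2 fun c hc => ?_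
    obtain ⟨a, rfl⟩ := QuotientAddGroup.mk_surjective c
    refine (QuotientAddGroup.eq_zero_iff a).2 ?_
    rw [ratTriv_eq_bot, AddSubgroup.mem_bot]
    refine Subtype.ext ?_
    ext x
    rw [Unique.eq_default x]
    exact hc
  · intro n
    refine ⟨ChowOps.cl (single _ n) (fun x hx => absurd rfl hx), ?_⟩
    rw [coeff_cl]
    rfl

theorem residueDegree_field (F : Type u) [Field F] [Algebra k F]
    (p : Spec (CommRingCat.of F)) :
    (Spec.map (CommRingCat.ofHom (algebraMap k F))).residueDegree p = Module.finrank k F := by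
  rw [Groth.L22.Cyc.residueDegree_spec]
  have hbot : (p.asIdeal : Ideal F) = ⊥ := (Ideal.eq_bot_or_top _).resolve_right p.2.ne_top
  haveI : (p.asIdeal : Ideal F).IsMaximal := hbot ▸ Ideal.bot_isMaximal
  have hb : Function.Bijective (algebraMap F (p.asIdeal : Ideal F).ResidueField) := by
    refine ⟨RingHom.injective _, fun b => ?_⟩
    obtain ⟨c, rfl⟩ := Ideal.bijective_algebraMap_quotient_residueField _ |>.2 b
    obtain ⟨a, rfl⟩ := Ideal.Quotient.mk_surjective c
    exact ⟨a, IsScalarTower.algebraMap_apply F (F ⧸ (p.asIdeal : Ideal F)) _ a⟩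
  exact ((AlgEquiv.ofBijective (IsScalarTower.toAlgHom k F (p.asIdeal : Ideal F).ResidueField)
    hb).toLinearEquiv.finrank_eq).symm

theorem coeff_push (F : Type u) [Field F] [Algebra k F]
    (α : AlgebraicCycle (Spec (CommRingCat.of F)) ℤ)
    (h : AlgebraicCycle.map (Spec.map (CommRingCat.ofHom (algebraMap k F)))
      (fun _ => (0 : ℤ)) (fun _ => (0 : ℤ)) α ∈
        Cyc.Zk (Spec (CommRingCat.of k)) (fun _ => 0) 0) :
    coeff k (ChowOps.cl (AlgebraicCycle.map (Spec.map (CommRingCat.ofHom (algebraMap k F)))
      (fun _ => (0 : ℤ)) (fun _ => (0 : ℤ)) α) h) = α default * (Module.finrank k F : ℤ) := by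
  rw [coeff_cl]
  show (∑ᶠ x ∈ ((Spec.map (CommRingCat.ofHom (algebraMap k F))).base) ⁻¹' {default},
    α x * _) = _
  have hpre : ((Spec.map (CommRingCat.ofHom (algebraMap k F))).base) ⁻¹' {default} =
      ({default} : Set (Spec (CommRingCat.of F))) := by
    ext x
    simp only [Set.mem_preimage, Set.mem_singleton_iff]
    exact iff_of_true (Unique.eq_default _) (Unique.eq_default _)
  rw [hpre, finsum_mem_singleton]
  simp [AlgebraicCycle.mapCoeff, residueDegree_field]

theorem mem_Zk (α : AlgebraicCycle (Spec (CommRingCat.of k)) ℤ) :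
    α ∈ Cyc.Zk (Spec (CommRingCat.of k)) (fun _ => 0) 0 :=
  fun _ hx => absurd rfl hx

variable (K : Type u) [Field K] [Algebra k K]

/-- The degrees of the nontrivial finite subextensions. -/
def degrees : Set ℤ :=
  {d | ∃ F : IntermediateField k K,
    FiniteDimensional k F ∧ F ≠ ⊥ ∧ (Module.finrank k F : ℤ) = d}

theorem map_ptNormSubgroup :
    (QsChow.ptNormSubgroup k K).map (coeff k) = AddSubgroup.closure (degrees k K) := by
  apply le_antisymm
  · rw [QsChow.ptNormSubgroup, AddMonoidHom.map_closure, AddSubgroup.closure_le]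
    rintro _ ⟨_, ⟨F, hF, hne, α, h, rfl⟩, rfl⟩
    rw [coeff_push, mul_comm]
    simpa only [SetLike.mem_coe, zsmul_eq_mul, Int.cast_eq, mul_comm] using
      AddSubgroup.zsmul_mem (AddSubgroup.closure (degrees k K))
        (AddSubgroup.subset_closure ⟨F, hF, hne, rfl⟩) (α default)
  · rw [AddSubgroup.closure_le]
    rintro _ ⟨F, hF, hne, rfl⟩
    refine AddSubgroup.mem_map.2 ⟨_, AddSubgroup.subset_closure
      ⟨F, hF, hne, single _ 1, mem_Zk k _, rfl⟩, ?_⟩
    rw [coeff_push]
    exact one_mul _

theorem exists_of_subgroup (L : IntermediateField k K) [FiniteDimensional k L] [IsGalois k L]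
    (P : Subgroup Gal(L/k)) (hP : P.index ≠ 1) :
    (P.index : ℤ) ∈ degrees k K := by
  let F := IntermediateField.fixedField P
  have e : Module.finrank k (IntermediateField.lift F) = P.index := by
    rw [← (IntermediateField.liftAlgEquiv F).toLinearEquiv.finrank_eq]
    have h1 : Module.finrank k F * Module.finrank F L = Module.finrank k L :=
      Module.finrank_mul_finrank k F L
    rw [IntermediateField.finrank_fixedField_eq_card, ← IsGalois.card_aut_eq_finrank k L,
      ← P.index_mul_card] at h1
    exact Nat.eq_of_mul_eq_mul_right Nat.card_pos h1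
  refine ⟨IntermediateField.lift F, ?_, ?_, by rw [e]⟩
  · exact FiniteDimensional.of_finrank_pos
      (by rw [e]; exact Nat.pos_of_ne_zero Subgroup.index_ne_zero_of_finite)
  · intro h
    rw [h, IntermediateField.finrank_bot] at e
    exact hP e.symm

end Groth.Agent.L28.PtNorm
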